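import Groth.Agent.CompInt.Conormal
import Groth.Agent.HodgeCI.CIFacts
import Groth.Agent.ExtFund.Adjunction
import Groth.Agent.ExtFund.SmoothPn
import Groth.Agent.ExtFund.CanonDet
import Groth.Agent.ExtFund.CanonIndep
import Groth.Agent.SGA6Ext.Lambda
import Groth.Agent.SGA6Ext.Exists
import Groth.Agent.CurveRR.Curve
import Groth.Agent.SmDiff.Scheme

/-!
The canonical bundle of a smooth complete intersection of two forms.
-/

set_option autoImplicit false
set_option backward.isDefEq.respectTransparency false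
set_option backward.isDefEq.respectTransparency.types false
set_option linter.style.haveILetI false

universe u

open CategoryTheory CategoryTheory.Limits AlgebraicGeometry TopologicalSpace Opposite

noncomputable section

namespace Groth.Agent.CICanon

open Groth.Agent.HodgeCI (tw)

theorem hasDet_one {X : Scheme.{u}} {L : X.Modules} (hL : PicF.IsInvertible L) : DetDeg.HasDet 1 L L :=
  DetDeg.hasDet_of_isExtPow (CurveRR.isFinLocFreeOfRank_one hL) (SGA6Ext.isExtPow_one L)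

/-- The determinant of a sum of two invertible modules. -/
theorem exists_det_sigma {X : Scheme.{u}} (A : Fin 2 → X.Modules) (hA : ∀ i, PicF.IsInvertible (A i)) :
    ∃ L : X.Modules, DetDeg.HasDet 2 (∐ A) L ∧ Nonempty (L ≅ CohB1.tensorMod (A 0) (A 1)) := by
  let f : A 0 ⟶ ∐ A := Sigma.ι A 0
  let g : ∐ A ⟶ A 1 := Sigma.desc (Fin.cons (0 : A 0 ⟶ A 1) (Fin.cons (𝟙 (A 1)) finZeroElim))
  let r : ∐ A ⟶ A 0 := Sigma.desc (Fin.cons (𝟙 (A 0)) (Fin.cons (0 : A 1 ⟶ A 0) finZeroElim))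
  have hfg : f ≫ g = 0 := by simp [f, g]
  let S := ShortComplex.mk f g hfg
  have σ : S.Splitting :=
    { r := r
      s := Sigma.ι A 1
      f_r := by simp [S, f, r]
      s_g := by simp [S, g]
      id := by
        refine Sigma.hom_ext _ _ fun i => ?_
        fin_cases i <;> simp [S, f, g, r] }
  obtain ⟨L, hL, e⟩ := ExtFund.exists_det_of_ses S σ.shortExact (hasDet_one (hA 0)) (hasDet_one (hA 1))
  exact ⟨L, hL, e⟩

/-- Adjunction for a smooth complete intersection of two forms. -/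
theorem nonempty_canonical {k : Type u} [Field k] {N : ℕ} (X : Scheme.{u}) [X.Over (Spec (CommRingCat.of k))]
    [IsIntegral X] [Smooth (X ↘ Spec (CommRingCat.of k))] (hdim : topologicalKrullDim X = N)
    (ι : X ⟶ CohB1.ProjSpace (N + 2) k) [IsClosedImmersion ι]
    (hι : ι ≫ CohB1.ProjSpace.toSpec (N + 2) k = X ↘ Spec (CommRingCat.of k))
    {a : Fin 2 → ℕ} (ha : ∀ j, 1 ≤ a j) (G : ∀ j, LefPen.Form (N + 2) k (a j)) (hker : ι.ker = LefPen.ciIdeal G)
    (W : X.Modules) (hW : ExtPow.IsExtPow N (Omega.sheaf (X ↘ Spec (CommRingCat.of k))) W) (T : ℤ)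
    (hT : T = (a 0 : ℤ) + a 1 - (N + 3)) : Nonempty (W ≅ tw ι T) := by
  haveI hXN : SmoothOfRelativeDimension N (X ↘ Spec (CommRingCat.of k)) :=
    SmDiff.smoothOfRelativeDimension_of_dim _ N hdim
  haveI : IsProper (CohB1.ProjSpace.toSpec (N + 2) k) := ProjMor.isProper_toSpec (N + 2) k
  haveI hP : SmoothOfRelativeDimension (N + 2) (CohB1.ProjSpace.toSpec (N + 2) k) :=
    ExtFund.smoothOfRelativeDimension_projSpace (N + 2)
  haveI : SmoothOfRelativeDimension N (ι ≫ CohB1.ProjSpace.toSpec (N + 2) k) := by rw [hι]; exact hXN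
  -- the abstract complete intersection
  obtain ⟨e, he⟩ : ∃ e : X ≅ (LefPen.ciIdeal G).subscheme, e.hom ≫ (LefPen.ciIdeal G).subschemeι = ι := by
    rw [← hker]
    exact ⟨asIso ι.toImage, ι.toImage_imageι⟩
  haveI : SmoothOfRelativeDimension N ((LefPen.ciIdeal G).subschemeι ≫ CohB1.ProjSpace.toSpec (N + 2) k) := by
    have h : (LefPen.ciIdeal G).subschemeι ≫ CohB1.ProjSpace.toSpec (N + 2) k =
        e.inv ≫ ι ≫ CohB1.ProjSpace.toSpec (N + 2) k := by rw [← he, Category.assoc, Iso.inv_hom_id_assoc]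
    rw [h]
    exact (MorphismProperty.cancel_left_of_respectsIso (P := @SmoothOfRelativeDimension N) _ _).2 inferInstance
  obtain ⟨c⟩ := (HodgeCI.isCI_of_smooth ha G).nonempty_conormal_iso
  let j := (LefPen.ciIdeal G).subschemeι
  let A : Fin 2 → X.Modules := fun i => tw ι (-(a i : ℤ))
  obtain ⟨ec⟩ : Nonempty ((∐ A) ≅ Omega.conormal ι) := by
    refine ⟨(Sigma.mapIso fun i => (Scheme.Modules.pullbackCongr he.symm).app _ ≪≫
      ((Scheme.Modules.pullbackComp e.hom j).app _).symm) ≪≫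
      (PreservesCoproduct.iso (Scheme.Modules.pullback e.hom) _).symm ≪≫
      (Scheme.Modules.pullback e.hom).mapIso c ≪≫ (Scheme.Modules.pullbackComp e.hom j).app _ ≪≫
      (Scheme.Modules.pullbackCongr he).app _ ≪≫ eqToIso ?_⟩
    rw [Omega.conormal, hker]
  obtain ⟨L, hL, ⟨eL⟩⟩ := exists_det_sigma A fun i => HodgeCI.isInvertible_tw ι _
  obtain ⟨ωP, -, hωP⟩ := SGA6Ext.exists_extPow (N + 2) (Omega.sheaf (CohB1.ProjSpace.toSpec (N + 2) k))
    (SGA6Ext.finLocFree_of_rank (ExtFund.isFinLocFreeOfRank_omega _ (N + 2)))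
  obtain ⟨eP⟩ := ExtFund.nonempty_top_projSpace (N + 2) hωP
  rw [← hι] at hW
  obtain ⟨adj⟩ := ExtFund.nonempty_adjunction (CohB1.ProjSpace.toSpec (N + 2) k) ι (N + 2) N 2 (Nat.add_comm N 2)
    hωP hW (ExtFund.isExtPow_of_hasDet (ExtFund.hasDet_congr ec hL))
  obtain ⟨t₁⟩ := HodgeCI.nonempty_tw_add ι (-(a 1 : ℤ)) (-(a 0 : ℤ)) (-((a 0 : ℤ) + a 1)) (by ring)
  obtain ⟨t₂⟩ := HodgeCI.nonempty_tw_add ι ((a 0 : ℤ) + a 1) (-((a 0 : ℤ) + a 1)) 0 (by ring)
  obtain ⟨t₃⟩ := HodgeCI.nonempty_tw_add ι ((a 0 : ℤ) + a 1) (-((N + 2 : ℕ) + 1 : ℤ)) T (by rw [hT]; push_cast; ring)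
  obtain ⟨o⟩ := HodgeCI.nonempty_tw_zero ι
  refine ⟨(SecTwist.unitorR W).symm ≪≫ PicGrp.tensorModIso (Iso.refl W) (o.symm ≪≫ t₂.symm) ≪≫
    (TMul.assocIso W _ _).symm ≪≫ PicGrp.tensorModIso ?_ (Iso.refl _) ≪≫ t₃⟩
  exact PicGrp.tensorModIso (Iso.refl W) (t₁.symm ≪≫ eL.symm) ≪≫ adj.symm ≪≫
    (Scheme.Modules.pullback ι).mapIso eP

end Groth.Agent.CICanon
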